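import Groth.Agent.SchDomRad.Basic
import Groth.Agent.UnibranchEtale.Components
import Groth.Agent.FpqcDescent.Sep
import Groth.Prelude.Def_CAlg2

/-!
# Supremum of two dominant étale affine factorisations
-/

set_option autoImplicit false
set_option backward.isDefEq.respectTransparency false
set_option backward.isDefEq.respectTransparency.types false
set_option linter.style.haveILetI false

universe u

open CategoryTheory CategoryTheory.Limits AlgebraicGeometry TopologicalSpace
open Groth.Agent.AssLib Groth.Agent.SchDomRad Groth.Agent.QC Groth.Agent.UnibranchEtale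

namespace Groth.Agent.EtHullSup

variable {X S : Scheme.{u}}

theorem flat_of_comp_eq {E : Scheme.{u}} {f : X ⟶ S} [Flat f] (u : X ⟶ E) (g : E ⟶ S) [Etale g]
    (h : u ≫ g = f) : Flat u := by
  subst h; exact flat_of_comp_etale u g

theorem range_stableUnderGeneralization {E : Scheme.{u}} (u : X ⟶ E) [Flat u] {y z : E}
    (hz : z ⤳ y) (hy : y ∈ Set.range u.base) : z ∈ Set.range u.base := by
  obtain ⟨x, rfl⟩ := hy
  obtain ⟨x', -, hx'⟩ := Flat.generalizingMap u hz
  exact ⟨x', hx'⟩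

theorem maximal_of_ass [IsLocallyNoetherian S] (hemb : AssSch.NoEmbedded (Coh.structureModule S))
    {E : Scheme.{u}} (g : E ⟶ S) [Etale g] {x : E} (hx : Curv2.IsAssPoint (Coh.structureModule E) x)
    {y : E} (hy : y ⤳ x) : y = x := by
  have he : g y = g x :=
    eq_of_flatOver g (fun z hz w hw hwz => hemb z hz w hw hwz) _ (flatOver_struct g) hx (hy.map g.continuous)
  haveI := Groth.Agent.FpqcDescent.locallyQuasiFinite_of_etale g
  haveI : DiscreteTopology (g.base ⁻¹' {g.base x}) :=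
    isDiscrete_iff_discreteTopology.1 (g.isDiscrete_preimage_singleton (g.base x))
  have h1 : (⟨y, he⟩ : g.base ⁻¹' {g.base x}) ⤳ ⟨x, rfl⟩ := (subtype_specializes_iff _ _).2 hy
  exact congrArg Subtype.val h1.eq

/-- The closure of the image of a flat morphism into a scheme with open components is open. -/
theorem isOpen_closure_range {E : Scheme.{u}} [IsNoetherian E]
    (hE : ∀ y : E, CAlg2.IsGeomUnibranch (E.presheaf.stalk y)) (u : X ⟶ E) [Flat u] :
    IsOpen (closure (Set.range u.base)) ∧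
      ∀ η ∈ closure (Set.range u.base), (∀ z, z ⤳ η → z = η) → η ∈ Set.range u.base := by
  classical
  have hfin : (irreducibleComponents E).Finite := NoetherianSpace.finite_irreducibleComponents
  let T : Set (Set E) := {Z | Z ∈ irreducibleComponents E ∧ ∃ η ∈ Set.range u.base, IsGenericPoint η Z}
  have hT : T.Finite := hfin.subset fun Z hZ => hZ.1
  have hsub : closure (Set.range u.base) ⊆ ⋃₀ T := by
    refine closure_minimal (fun y hy => ?_) ?_
    · obtain ⟨η, hη, -⟩ := exists_generic (irreducibleComponent_mem_irreducibleComponents y)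
      exact ⟨irreducibleComponent y, ⟨irreducibleComponent_mem_irreducibleComponents y, η,
        range_stableUnderGeneralization u (hη.specializes mem_irreducibleComponent) hy, hη⟩,
        mem_irreducibleComponent⟩
    · rw [Set.sUnion_eq_biUnion]
      exact hT.isClosed_biUnion fun Z hZ => isClosed_of_mem_irreducibleComponents Z hZ.1
  have hsup : ⋃₀ T ⊆ closure (Set.range u.base) := by
    rintro z ⟨Z, ⟨-, η, hη, hgen⟩, hz⟩
    exact closure_mono (Set.singleton_subset_iff.2 hη) (hgen.specializes hz).mem_closure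
  have heq : closure (Set.range u.base) = ⋃₀ T := Set.Subset.antisymm hsub hsup
  refine ⟨?_, fun η hη hmax => ?_⟩
  · rw [heq]
    refine isOpen_sUnion fun Z hZ => component_isOpen hE (fun y => ⟨⊤, trivial, ?_⟩) hZ.1
    exact @NoetherianSpace.finite_irreducibleComponents _ _ (NoetherianSpace.set ((⊤ : E.Opens) : Set E))
  · obtain ⟨Z, ⟨-, c, hc, hgen⟩, hηZ⟩ := hsub hη
    rwa [← hmax c (hgen.specializes hηZ)]

/-- A dominant flat factorisation maps into the closure of the image. -/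
theorem range_subset_closure [IsNoetherian S] {E E' : Scheme.{u}} (u : X ⟶ E) (u' : X ⟶ E') [Flat u']
    [IsSchemeTheoreticallyDominant u'] [IsLocallyNoetherian E'] (w : E' ⟶ E) (h : u' ≫ w = u) (z : E') :
    w.base z ∈ closure (Set.range u.base) := by
  obtain ⟨y, hyz, hy⟩ := exists_ass_specializes (M := Coh.structureModule E') (isQCoh_unit E')
    (nontrivial_struct z)
  obtain ⟨x, rfl⟩ := (dominant_iff u').1 ‹_› hy
  refine (hyz.map w.continuous).mem_closed isClosed_closure (subset_closure ⟨x, ?_⟩)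
  rw [← h]
  rfl

theorem exists_sup [IsNoetherian S] (hS : ∀ s : S, CAlg2.IsGeomUnibranch (S.presheaf.stalk s))
    (hemb : AssSch.NoEmbedded (Coh.structureModule S)) (f : X ⟶ S) [Flat f] (E₁ E₂ : Scheme.{u})
    (g₁ : E₁ ⟶ S) (g₂ : E₂ ⟶ S) (u₁ : X ⟶ E₁) (u₂ : X ⟶ E₂) [Etale g₁] [Etale g₂] [IsAffineHom g₁]
    [IsAffineHom g₂] (h₁ : u₁ ≫ g₁ = f) (h₂ : u₂ ≫ g₂ = f) :
    ∃ (E : Scheme.{u}) (g : E ⟶ S) (u : X ⟶ E) (v₁ : E ⟶ E₁) (v₂ : E ⟶ E₂),
      Etale g ∧ IsAffineHom g ∧ IsSchemeTheoreticallyDominant u ∧ u ≫ g = f ∧ u ≫ v₁ = u₁ ∧ u ≫ v₂ = u₂ ∧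
      v₁ ≫ g₁ = g ∧ v₂ ≫ g₂ = g ∧ ∀ (E' : Scheme.{u}) (g' : E' ⟶ S) (u' : X ⟶ E') (w₁ : E' ⟶ E₁)
        (w₂ : E' ⟶ E₂), Etale g' → IsAffineHom g' → IsSchemeTheoreticallyDominant u' → u' ≫ g' = f →
        u' ≫ w₁ = u₁ → u' ≫ w₂ = u₂ → w₁ ≫ g₁ = g' → w₂ ≫ g₂ = g' →
        ∃ w : E' ⟶ E, u' ≫ w = u ∧ w ≫ v₁ = w₁ ∧ w ≫ v₂ = w₂ := by
  let P := pullback g₁ g₂
  let gP : P ⟶ S := pullback.fst g₁ g₂ ≫ g₁
  let uP : X ⟶ P := pullback.lift u₁ u₂ (h₁.trans h₂.symm)
  have hP : uP ≫ gP = f := by rw [← Category.assoc, pullback.lift_fst, h₁]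
  haveI : Etale gP := inferInstance
  haveI : IsAffineHom (pullback.fst g₁ g₂) := MorphismProperty.pullback_fst g₁ g₂ ‹_›
  haveI : IsAffineHom gP := MorphismProperty.comp_mem _ _ _ ‹_› ‹_›
  haveI : IsLocallyNoetherian P := LocallyOfFiniteType.isLocallyNoetherian gP
  haveI : CompactSpace P := QuasiCompact.compactSpace_of_compactSpace gP
  haveI : IsNoetherian P := {}
  haveI : Flat uP := flat_of_comp_eq uP gP hP
  have hGU : ∀ y : P, CAlg2.IsGeomUnibranch (P.presheaf.stalk y) := fun y =>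
    isGeomUnibranch_stalk_of_etale gP y (hS _)
  obtain ⟨hopen, hmax⟩ := isOpen_closure_range hGU uP
  let W : P.Opens := ⟨closure (Set.range uP.base), hopen⟩
  have hWr : Set.range uP.base ⊆ (W : Set P) := subset_closure
  let u : X ⟶ W := IsOpenImmersion.lift W.ι uP (by rw [Scheme.Opens.range_ι]; exact hWr)
  have hu : u ≫ W.ι = uP := IsOpenImmersion.lift_fac _ _ _
  haveI : IsClosedImmersion W.ι := by
    refine IsClosedImmersion.of_isPreimmersion _ ?_
    rw [Scheme.Opens.range_ι]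
    exact isClosed_closure
  haveI : IsAffineHom (W.ι ≫ gP) := inferInstance
  have hug : u ≫ W.ι ≫ gP = f := by rw [← Category.assoc, hu, hP]
  haveI : Flat u := flat_of_comp_eq u (W.ι ≫ gP) hug
  haveI : IsLocallyNoetherian (W : Scheme.{u}) := LocallyOfFiniteType.isLocallyNoetherian (W.ι ≫ gP)
  refine ⟨W, W.ι ≫ gP, u, W.ι ≫ pullback.fst g₁ g₂, W.ι ≫ pullback.snd g₁ g₂, inferInstance,
    inferInstance, ?_, hug, ?_, ?_, by simp [gP], by simp [gP, pullback.condition], ?_⟩
  · refine (dominant_iff u).2 fun y hy => ?_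
    have hy' : Curv2.IsAssPoint (Coh.structureModule P) (W.ι.base y) := (ass_etale_iff W.ι y).1 hy
    obtain ⟨x, hx⟩ := hmax (W.ι.base y) y.2 fun z hz => maximal_of_ass hemb gP hy' hz
    refine ⟨x, W.ι.isOpenEmbedding.injective ?_⟩
    rw [← Scheme.Hom.comp_apply, hu, hx]
  · rw [← Category.assoc, hu, pullback.lift_fst]
  · rw [← Category.assoc, hu, pullback.lift_snd]
  · intro E' g' u' w₁ w₂ hg' _ hdom hf' hu₁ hu₂ hw₁ hw₂
    haveI : Flat u' := flat_of_comp_eq u' g' hf'
    haveI : IsLocallyNoetherian E' := LocallyOfFiniteType.isLocallyNoetherian g'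
    let wP : E' ⟶ P := pullback.lift w₁ w₂ (hw₁.trans hw₂.symm)
    have hwP : u' ≫ wP = uP := by
      apply pullback.hom_ext <;> simp [wP, uP, hu₁, hu₂]
    have hr : Set.range wP.base ⊆ Set.range W.ι.base := by
      rintro _ ⟨z, rfl⟩
      rw [Scheme.Opens.range_ι]
      exact range_subset_closure (S := S) uP u' wP hwP z
    refine ⟨IsOpenImmersion.lift W.ι wP hr, ?_, ?_, ?_⟩
    · rw [← cancel_mono W.ι, Category.assoc, IsOpenImmersion.lift_fac, hwP, hu]
    · rw [← Category.assoc, IsOpenImmersion.lift_fac, pullback.lift_fst]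
    · rw [← Category.assoc, IsOpenImmersion.lift_fac, pullback.lift_snd]

end Groth.Agent.EtHullSup
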