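import Groth.Agent.EtHullSup.Basic
import Groth.Agent.DimOne.Geom
import Groth.Agent.Nagata.Reduced
import Groth.Agent.NagataNorm.Basic
import Groth.Agent.Weighting.Geom

/-!
# The étale affine hull over a geometrically unibranch base without embedded points
-/

set_option autoImplicit false
set_option backward.isDefEq.respectTransparency false
set_option backward.isDefEq.respectTransparency.types false
set_option linter.style.haveILetI false

universe u

open CategoryTheory CategoryTheory.Limits AlgebraicGeometry TopologicalSpace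
open Groth.Agent.AssLib Groth.Agent.SchDomRad Groth.Agent.QC Groth.Agent.UnibranchEtale

noncomputable section

namespace Groth.Agent.EtHullSup

variable {X S E T : Scheme.{u}}

theorem ext_of_dominant (u : X ⟶ E) [IsSchemeTheoreticallyDominant u] (q : T ⟶ S) [IsSeparated q]
    (a b : E ⟶ T) (hq : a ≫ q = b ≫ q) (h : u ≫ a = u ≫ b) : a = b := by
  let i := pullback.fst (pullback.lift a b hq) (pullback.diagonal q)
  haveI : IsClosedImmersion i := MorphismProperty.pullback_fst _ _ inferInstance
  let k : X ⟶ pullback (pullback.lift a b hq) (pullback.diagonal q) := pullback.lift u (u ≫ a) (by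
    apply pullback.hom_ext <;> simp [h])
  have hk : k ≫ i = u := pullback.lift_fst _ _ _
  haveI : IsIso i := IsClosedImmersion.isIso_iff_ker_eq_bot.2 (le_bot_iff.1 (by
    refine le_trans (k.le_ker_comp i) ?_
    rw [hk, u.ker_eq_bot]))
  have hc := pullback.condition (f := pullback.lift a b hq) (g := pullback.diagonal q)
  have h1 := congr($hc ≫ pullback.fst q q)
  have h2 := congr($hc ≫ pullback.snd q q)
  rw [Category.assoc, Category.assoc, pullback.lift_fst, pullback.diagonal_fst, Category.comp_id] at h1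
  rw [Category.assoc, Category.assoc, pullback.lift_snd, pullback.diagonal_snd, Category.comp_id] at h2
  exact (cancel_epi i).1 (h1.trans h2.symm)

/-- a point without proper generalisation -/
def IsMaxPt (x : X) : Prop := ∀ y : X, y ⤳ x → y = x

theorem exists_maxPt (x : X) : ∃ ξ : X, ξ ⤳ x ∧ IsMaxPt ξ := by
  obtain ⟨η, hη, hmax⟩ := exists_generic (irreducibleComponent_mem_irreducibleComponents x)
  exact ⟨η, hη.specializes mem_irreducibleComponent, hmax⟩

theorem finite_maxPt [IsNoetherian X] : {x : X | IsMaxPt x}.Finite := by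
  refine Set.Finite.of_finite_image (f := fun x => closure ({x} : Set X))
    ((NoetherianSpace.finite_irreducibleComponents (α := X)).subset ?_) fun x _ y _ e => ?_
  · rintro _ ⟨x, hx, rfl⟩
    exact mem_components_of_maximal hx
  · exact (show IsGenericPoint x (closure ({x} : Set X)) from rfl).eq
      (show IsGenericPoint y (closure ({x} : Set X)) from (Eq.symm e))

theorem isMaxPt_map (u : X ⟶ E) [Flat u] {ξ : X} (hξ : IsMaxPt ξ) : IsMaxPt (u.base ξ) := fun z hz => by
  obtain ⟨x', hx', hx''⟩ := Flat.generalizingMap u hz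
  rw [hξ x' hx'] at hx''
  exact hx''.symm

theorem isAssPoint_of_isMaxPt {x : X} (hx : IsMaxPt x) : Curv2.IsAssPoint (Coh.structureModule X) x :=
  ((ass_minimal_iff (isQCoh_unit X) x).2 ⟨nontrivial_struct x, fun y _ hy => hx y hy⟩).1

theorem exists_maxPt_lift [IsLocallyNoetherian E] (u : X ⟶ E) [Flat u] [IsSchemeTheoreticallyDominant u]
    {η : E} (hη : IsMaxPt η) : ∃ ξ : X, IsMaxPt ξ ∧ u.base ξ = η := by
  obtain ⟨x, hx⟩ := (dominant_iff u).1 ‹_› (isAssPoint_of_isMaxPt hη)
  obtain ⟨ξ, hξx, hξ⟩ := exists_maxPt x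
  exact ⟨ξ, hξ, hη _ (hx ▸ hξx.map u.continuous)⟩

/-- the residue degree at a point -/
def deg (g : E ⟶ S) (η : E) : ℕ :=
  letI := (g.residueFieldMap η).hom.toAlgebra
  Module.finrank (S.residueField (g.base η)) (E.residueField η)

theorem deg_comp {E' : Scheme.{u}} (v : E' ⟶ E) (g : E ⟶ S) [LocallyQuasiFinite g] (η : E') :
    deg (v ≫ g) η = deg g (v.base η) * deg v η := by
  have he : (v ≫ g).residueFieldMap η = g.residueFieldMap (v.base η) ≫ v.residueFieldMap η :=
    Scheme.residueFieldMap_comp v g η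
  letI a1 : Algebra (S.residueField (g.base (v.base η))) (E.residueField (v.base η)) :=
    (g.residueFieldMap (v.base η)).hom.toAlgebra
  letI a2 : Algebra (E.residueField (v.base η)) (E'.residueField η) := (v.residueFieldMap η).hom.toAlgebra
  letI a3 : Algebra (S.residueField (g.base (v.base η))) (E'.residueField η) :=
    ((v ≫ g).residueFieldMap η).hom.toAlgebra
  haveI : IsScalarTower (S.residueField (g.base (v.base η))) (E.residueField (v.base η)) (E'.residueField η) :=
    IsScalarTower.of_algebraMap_eq' (congrArg CommRingCat.Hom.hom he)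
  exact (Module.finrank_mul_finrank (S.residueField (g.base (v.base η))) (E.residueField (v.base η))
    (E'.residueField η)).symm

theorem deg_pos (g : E ⟶ S) [LocallyQuasiFinite g] (η : E) : 0 < deg g η := by
  letI := (g.residueFieldMap η).hom.toAlgebra
  haveI : Module.Finite (S.residueField (g.base η)) (E.residueField η) := Weighting.finite_residueFieldMap g η
  exact Module.finrank_pos

theorem isIso_residueFieldMap (g : E ⟶ S) (η : E) (h : deg g η = 1) : IsIso (g.residueFieldMap η) := by
  letI := (g.residueFieldMap η).hom.toAlgebra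
  refine (ConcreteCategory.isIso_iff_bijective _).2 ⟨RingHom.injective _, fun w => ?_⟩
  obtain ⟨c, hc⟩ := (finrank_eq_one_iff_of_nonzero' (1 : E.residueField η) one_ne_zero).1 h w
  exact ⟨c, (Algebra.algebraMap_eq_smul_one c).trans hc⟩

/-- the bound for the residue degrees below a point -/
def degBound (f : X ⟶ S) (ξ : X) : ℕ :=
  letI := (f.residueFieldMap ξ).hom.toAlgebra
  Module.finrank (S.residueField (f.base ξ)) (algebraicClosure (S.residueField (f.base ξ)) (X.residueField ξ))

theorem deg_le_degBound (u : X ⟶ E) (g : E ⟶ S) [LocallyQuasiFinite g] [LocallyOfFiniteType (u ≫ g)] (ξ : X) :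
    deg g (u.base ξ) ≤ degBound (u ≫ g) ξ := by
  have he : (u ≫ g).residueFieldMap ξ = g.residueFieldMap (u.base ξ) ≫ u.residueFieldMap ξ :=
    Scheme.residueFieldMap_comp u g ξ
  let K := S.residueField (g.base (u.base ξ))
  letI a1 : Algebra K (E.residueField (u.base ξ)) := (g.residueFieldMap (u.base ξ)).hom.toAlgebra
  letI a3 : Algebra K (X.residueField ξ) := ((u ≫ g).residueFieldMap ξ).hom.toAlgebra
  haveI : Module.Finite K (E.residueField (u.base ξ)) := Weighting.finite_residueFieldMap g _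
  haveI : Algebra.EssFiniteType K (X.residueField ξ) :=
    RingHom.essFiniteType_algebraMap.1 (NagataNorm.residueFieldMap_essFiniteType (u ≫ g) ξ)
  haveI : FiniteDimensional K (algebraicClosure K (X.residueField ξ)) :=
    Groth.Agent.Nagata.finite_algebraicClosure K (X.residueField ξ)
  let φ : E.residueField (u.base ξ) →ₐ[K] X.residueField ξ :=
    { (u.residueFieldMap ξ).hom with
      commutes' := fun c => (DFunLike.congr_fun (congrArg CommRingCat.Hom.hom he) c).symm }
  let ψ : E.residueField (u.base ξ) →ₗ[K] algebraicClosure K (X.residueField ξ) :=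
    { toFun := fun z => ⟨φ z, mem_algebraicClosure_iff.2 ((Algebra.IsAlgebraic.isAlgebraic z).algHom φ)⟩
      map_add' := fun x y => Subtype.ext (map_add φ x y)
      map_smul' := fun c x => Subtype.ext (map_smul φ c x) }
  have := LinearMap.finrank_le_finrank_of_injective (f := ψ)
    fun x y e => (u.residueFieldMap ξ).hom.injective (congrArg Subtype.val e)
  exact this

/-- A separated étale morphism which is bijective on maximal points with trivial residue extensions is an
open immersion. -/
theorem isOpenImmersion_of_maxPt {E' : Scheme.{u}} [IsNoetherian E'] (v : E' ⟶ E) [Etale v] [IsSeparated v]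
    (hinj : ∀ a b : E', IsMaxPt a → IsMaxPt b → v.base a = v.base b → a = b)
    (hdeg : ∀ a : E', IsMaxPt a → deg v a = 1) : IsOpenImmersion v := by
  haveI : Surjective (pullback.diagonal v) := by
    refine ⟨fun z => ?_⟩
    obtain ⟨μ, hμz, hμ⟩ := exists_maxPt z
    suffices hr : μ ∈ Set.range (pullback.diagonal v).base from
      hμz.mem_closed (pullback.diagonal v).isClosedEmbedding.isClosed_range hr
    have hp₁ : IsMaxPt ((pullback.fst v v).base μ) := isMaxPt_map (pullback.fst v v) hμ
    have hp₂ : IsMaxPt ((pullback.snd v v).base μ) := isMaxPt_map (pullback.snd v v) hμ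
    have he : (pullback.fst v v).base μ = (pullback.snd v v).base μ := hinj _ _ hp₁ hp₂ (by
      rw [← Scheme.Hom.comp_apply, ← Scheme.Hom.comp_apply, pullback.condition])
    set η := (pullback.fst v v).base μ with hη
    haveI := isIso_residueFieldMap v η (hdeg η hp₁)
    haveI : Mono (E'.fromSpecResidueField η ≫ v) := by
      rw [← Scheme.Hom.SpecMap_residueFieldMap_fromSpecResidueField]
      infer_instance
    let a := Spec.map ((pullback.fst v v).residueFieldMap μ)
    let b := Spec.map ((E'.residueFieldCongr he).hom ≫ (pullback.snd v v).residueFieldMap μ)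
    have ha : a ≫ E'.fromSpecResidueField η = (pullback v v).fromSpecResidueField μ ≫ pullback.fst v v :=
      Scheme.Hom.SpecMap_residueFieldMap_fromSpecResidueField _ _
    have hb : b ≫ E'.fromSpecResidueField η = (pullback v v).fromSpecResidueField μ ≫ pullback.snd v v := by
      simp only [b, Spec.map_comp, Category.assoc, Scheme.residueFieldCongr_fromSpecResidueField]
      exact Scheme.Hom.SpecMap_residueFieldMap_fromSpecResidueField _ _
    have hab : a = b := by
      rw [← cancel_mono (E'.fromSpecResidueField η ≫ v), reassoc_of% ha, reassoc_of% hb, pullback.condition]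
    have hd : (pullback v v).fromSpecResidueField μ =
        ((pullback v v).fromSpecResidueField μ ≫ pullback.fst v v) ≫ pullback.diagonal v := by
      apply pullback.hom_ext
      · rw [Category.assoc, pullback.diagonal_fst, Category.comp_id]
      · rw [Category.assoc, pullback.diagonal_snd, Category.comp_id, ← ha, hab, hb]
    refine ⟨η, ?_⟩
    have h1 := (pullback v v).fromSpecResidueField_apply μ (IsLocalRing.closedPoint _)
    rw [hd, Scheme.Hom.comp_apply, Scheme.Hom.comp_apply, (pullback v v).fromSpecResidueField_apply] at h1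
    exact h1
  haveI : IsIso (pullback.diagonal v) := by
    rw [isIso_iff_isOpenImmersion_and_epi_base]
    exact ⟨inferInstance, (TopCat.epi_iff_surjective _).2 (pullback.diagonal v).surjective⟩
  haveI : Mono v := (pullback.isIso_diagonal_iff v).1 inferInstance
  exact IsOpenImmersion.of_flat_of_mono v

/-- An admissible factorisation: étale affine over the base, with schematically dominant first map. -/
structure Fac (f : X ⟶ S) where
  obj : Scheme.{u}
  g : obj ⟶ S
  u : X ⟶ obj
  etale : Etale g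
  affine : IsAffineHom g
  dom : IsSchemeTheoreticallyDominant u
  fac : u ≫ g = f

attribute [instance] Fac.etale Fac.affine Fac.dom

variable {f : X ⟶ S} [IsNoetherian X] [IsNoetherian S] [Flat f] [LocallyOfFiniteType f]

theorem Fac.isNoetherian (F : Fac f) : IsNoetherian F.obj := by
  haveI : IsLocallyNoetherian F.obj := LocallyOfFiniteType.isLocallyNoetherian F.g
  haveI : CompactSpace F.obj := QuasiCompact.compactSpace_of_compactSpace F.g
  exact {}

theorem Fac.flat (F : Fac f) : Flat F.u := flat_of_comp_eq F.u F.g F.fac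

/-- the generic size of a factorisation -/
def Fac.size (F : Fac f) : ℕ := by
  classical
  exact (∑ ξ ∈ (finite_maxPt (X := X)).toFinset, deg F.g (F.u.base ξ)) +
    ((finite_maxPt (X := X)).toFinset.image fun ξ => F.u.base ξ).card

theorem Fac.size_le (F : Fac f) :
    F.size ≤ (∑ ξ ∈ (finite_maxPt (X := X)).toFinset, degBound f ξ) + (finite_maxPt (X := X)).toFinset.card := by
  classical
  obtain ⟨E, g, u, _, _, _, rfl⟩ := F
  haveI := FpqcDescent.locallyQuasiFinite_of_etale g
  exact add_le_add (Finset.sum_le_sum fun ξ _ => deg_le_degBound u g ξ) Finset.card_image_le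

/-- The comparison map between factorisations. -/
theorem Fac.hom_props (F' F : Fac f) (v : F'.obj ⟶ F.obj) (hg : v ≫ F.g = F'.g) : Etale v ∧ IsAffineHom v := by
  haveI : Etale (v ≫ F.g) := hg ▸ F'.etale
  haveI : IsAffineHom (v ≫ F.g) := hg ▸ F'.affine
  exact ⟨Etale.of_comp v F.g, IsAffineHom.of_comp v F.g⟩

theorem Fac.size_mono (F' F : Fac f) (v : F'.obj ⟶ F.obj) (hu : F'.u ≫ v = F.u) (hg : v ≫ F.g = F'.g) :
    F.size ≤ F'.size ∧ (F.size = F'.size → IsOpenImmersion v) := by
  classical
  haveI := (Fac.hom_props F' F v hg).1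
  haveI := (Fac.hom_props F' F v hg).2
  haveI := FpqcDescent.locallyQuasiFinite_of_etale F.g
  haveI := FpqcDescent.locallyQuasiFinite_of_etale v
  haveI := F'.isNoetherian
  haveI := F'.flat
  set A := (finite_maxPt (X := X)).toFinset with hA
  have hpt : ∀ ξ, F.u.base ξ = v.base (F'.u.base ξ) := fun ξ => by rw [← hu]; rfl
  have hd : ∀ ξ, deg F'.g (F'.u.base ξ) = deg F.g (F.u.base ξ) * deg v (F'.u.base ξ) := fun ξ => by
    rw [hpt, ← deg_comp, hg]
  have h1 : ∀ ξ, deg F.g (F.u.base ξ) ≤ deg F'.g (F'.u.base ξ) := fun ξ => by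
    rw [hd]; exact Nat.le_mul_of_pos_right _ (deg_pos v _)
  have himg : (A.image fun ξ => F.u.base ξ) = (A.image fun ξ => F'.u.base ξ).image v.base := by
    rw [Finset.image_image]; exact Finset.image_congr fun ξ _ => hpt ξ
  have h2 : (A.image fun ξ => F.u.base ξ).card ≤ (A.image fun ξ => F'.u.base ξ).card := by
    rw [himg]; exact Finset.card_image_le
  refine ⟨add_le_add (Finset.sum_le_sum fun ξ _ => h1 ξ) h2, fun heq => ?_⟩
  have hs := Finset.sum_le_sum (s := A) fun ξ _ => h1 ξ
  unfold Fac.size at heq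
  rw [← hA] at heq
  have hsum : ∑ ξ ∈ A, deg F.g (F.u.base ξ) = ∑ ξ ∈ A, deg F'.g (F'.u.base ξ) := by omega
  have hcard : (A.image fun ξ => F.u.base ξ).card = (A.image fun ξ => F'.u.base ξ).card := by omega
  rw [himg, Finset.card_image_iff] at hcard
  have hmem : ∀ a : F'.obj, IsMaxPt a → ∃ ξ ∈ A, F'.u.base ξ = a := fun a ha => by
    obtain ⟨ξ, hξ, he⟩ := exists_maxPt_lift F'.u ha
    exact ⟨ξ, (finite_maxPt (X := X)).mem_toFinset.2 hξ, he⟩
  refine isOpenImmersion_of_maxPt v (fun a b ha hb e => ?_) fun a ha => ?_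
  · obtain ⟨ξ, hξ, rfl⟩ := hmem a ha
    obtain ⟨ξ', hξ', rfl⟩ := hmem b hb
    exact hcard (Finset.mem_coe.2 (Finset.mem_image_of_mem _ hξ)) (Finset.mem_coe.2 (Finset.mem_image_of_mem _ hξ')) e
  · obtain ⟨ξ, hξ, rfl⟩ := hmem a ha
    have h3 := ((Finset.sum_eq_sum_iff_of_le fun ξ _ => h1 ξ).1 hsum) ξ hξ
    rw [hd] at h3
    exact (Nat.eq_of_mul_eq_mul_left (deg_pos F.g _) ((mul_one _).trans h3)).symm

/-- An affine open containing a dense set containing the codimension one points misses only finitely many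
patterns: the family of such opens is finite. -/
theorem finite_affine_opens {E : Scheme.{u}} [IsNoetherian E] (O : E.Opens) (hO : Dense (O : Set E)) :
    {W : E.Opens | O ≤ W ∧ IsAffineHom W.ι}.Finite := by
  classical
  let Z : Set E := {z | z ∉ O ∧ ∀ y : E, y ∉ O → y ⤳ z → y = z}
  have hZ : Z.Finite := by
    let C : Set E := (O : Set E)ᶜ
    haveI : NoetherianSpace C := NoetherianSpace.set C
    haveI : QuasiSober C := O.2.isClosed_compl.isClosedEmbedding_subtypeVal.quasiSober
    have hfin : (irreducibleComponents C).Finite := NoetherianSpace.finite_irreducibleComponents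
    haveI : T0Space C := inferInstance
    have : Z ⊆ Subtype.val '' {c : C | ∃ K ∈ irreducibleComponents C, IsGenericPoint c K} := by
      rintro z ⟨hz, hmin⟩
      refine ⟨⟨z, hz⟩, ⟨closure {(⟨z, hz⟩ : C)}, ⟨isIrreducible_singleton.closure, fun K hK hle => ?_⟩, rfl⟩, rfl⟩
      obtain ⟨K', hK', hKK'⟩ := exists_mem_irreducibleComponents_subset_of_isIrreducible K hK
      obtain ⟨c, hc⟩ := QuasiSober.sober hK'.1 (isClosed_of_mem_irreducibleComponents K' hK')
      have hcz : c ⤳ (⟨z, hz⟩ : C) := hc.specializes (hKK' (hle (subset_closure rfl)))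
      have : c = ⟨z, hz⟩ := Subtype.ext (hmin c.1 c.2 ((subtype_specializes_iff _ _).1 hcz))
      rw [← this, hc.def]
      exact hKK'
    refine Set.Finite.subset (Set.Finite.image _ ?_) this
    refine Set.Finite.of_finite_image (f := fun c : C => closure ({c} : Set C)) (hfin.subset ?_)
      fun x _ y _ e => ?_
    · rintro _ ⟨c, ⟨K, hK, hc⟩, rfl⟩
      show closure {c} ∈ _
      rw [hc.def]; exact hK
    · exact (show IsGenericPoint x (closure ({x} : Set C)) from rfl).eq
        (show IsGenericPoint y (closure ({x} : Set C)) from (Eq.symm e))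
  have key : ∀ W ∈ {W : E.Opens | O ≤ W ∧ IsAffineHom W.ι},
      (W : Set E)ᶜ = ⋃ z ∈ Z \ (W : Set E), closure {z} := by
    rintro W ⟨hW, hWa⟩
    haveI : IsAffineHom W.ι := hWa
    refine Set.Subset.antisymm (fun x hx => ?_) (Set.iUnion₂_subset fun z hz =>
      closure_minimal (Set.singleton_subset_iff.2 hz.2) W.2.isClosed_compl)
    haveI : QuasiSober ↥((W : Set E)ᶜ) := W.2.isClosed_compl.isClosedEmbedding_subtypeVal.quasiSober
    obtain ⟨c, hc⟩ := QuasiSober.sober (isIrreducible_irreducibleComponent (x := (⟨x, hx⟩ : ↥((W : Set E)ᶜ))))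
      isClosed_irreducibleComponent
    have hcx : c.1 ⤳ x := (subtype_specializes_iff _ _).1 (hc.specializes mem_irreducibleComponent)
    have hmin : ∀ y : E, y ∉ W → y ⤳ c.1 → y = c.1 := fun y hy hyc => by
      have hy' : (⟨y, hy⟩ : ↥((W : Set E)ᶜ)) ⤳ c := (subtype_specializes_iff _ _).2 hyc
      have hsub : irreducibleComponent (⟨x, hx⟩ : ↥((W : Set E)ᶜ)) ≤ closure {(⟨y, hy⟩ : ↥((W : Set E)ᶜ))} := by
        rw [← hc.def]
        exact closure_minimal (Set.singleton_subset_iff.2 hy'.mem_closure) isClosed_closure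
      have heq := (irreducibleComponent_mem_irreducibleComponents _).2 isIrreducible_singleton.closure hsub
      exact congrArg Subtype.val ((show IsGenericPoint (⟨y, hy⟩ : ↥((W : Set E)ᶜ))
        (irreducibleComponent (⟨x, hx⟩ : ↥((W : Set E)ᶜ))) from le_antisymm heq hsub).eq hc)
    have hdim : ringKrullDim (E.presheaf.stalk c.1) ≤ 1 := DimOne.ringKrullDim_stalk_le_one W c.1 c.2 hmin
    refine Set.mem_biUnion (x := c.1) ⟨⟨fun h => c.2 (hW h), fun y hy hyc => ?_⟩, c.2⟩ hcx.mem_closure
    by_contra hne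
    obtain ⟨η, hηy, hη⟩ := exists_maxPt y
    have hηO : η ∈ O := by
      obtain ⟨o, ho, hco⟩ : ∃ o ∈ (O : Set E), o ⤳ η := by
        by_contra hno
        push Not at hno
        obtain ⟨Y, hY, hηY⟩ : ∃ Y : Set E, IsClosed Y ∧ η ∉ Y ∧ (O : Set E) ⊆ Y := by
          let T : Set (Set E) := {K | K ∈ irreducibleComponents E ∧ η ∉ K}
          have hT : T.Finite := NoetherianSpace.finite_irreducibleComponents.subset fun K hK => hK.1
          refine ⟨⋃₀ T, ?_, fun h => ?_, fun o ho => ?_⟩
          · rw [Set.sUnion_eq_biUnion]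
            exact hT.isClosed_biUnion fun K hK => isClosed_of_mem_irreducibleComponents K hK.1
          · obtain ⟨K, ⟨-, hK⟩, hηK⟩ := h; exact hK hηK
          · obtain ⟨ξ, hξo, hξ⟩ := exists_maxPt o
            refine ⟨closure {ξ}, ⟨mem_components_of_maximal hξ, fun h => ?_⟩, hξo.mem_closure⟩
            have hξη : ξ ⤳ η := specializes_iff_mem_closure.2 h
            exact hno ξ (hξo.mem_open O.2 ho) hξη
        exact hηY.1 (hY.closure_subset_iff.2 hηY.2 (hO η))
      exact hη o hco ▸ ho
    have hyη : η ≠ y := fun e => hy (e ▸ hηO)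
    have hlt1 : c.1 < y := lt_iff_le_not_ge.2 ⟨hyc, fun h => hne (hyc.antisymm h).eq⟩
    have hlt2 : y < η := lt_iff_le_not_ge.2 ⟨hηy, fun h => hyη (hηy.antisymm h).eq⟩
    have h2 : (2 : ℕ∞) ≤ Order.coheight c.1 := by
      have := (Order.coheight_add_one_le hlt2)
      have h' := Order.coheight_add_one_le hlt1
      calc (2 : ℕ∞) = 0 + 1 + 1 := by norm_num
        _ ≤ Order.coheight η + 1 + 1 := by gcongr; exact bot_le
        _ ≤ Order.coheight y + 1 := by gcongr
        _ ≤ Order.coheight c.1 := h'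
    rw [ringKrullDim_stalk_eq_coheight] at hdim
    have : Order.coheight c.1 ≤ 1 := by exact_mod_cast hdim
    exact absurd (h2.trans this) (by norm_num)
  refine Set.Finite.of_finite_image (f := fun W : E.Opens => Z \ (W : Set E))
    (hZ.finite_subsets.subset ?_) fun W hW W' hW' e => ?_
  · rintro _ ⟨W, -, rfl⟩; exact Set.sdiff_subset
  · refine TopologicalSpace.Opens.ext (compl_injective ?_)
    rw [key W hW, key W' hW']
    exact congrArg (fun s : Set E => ⋃ z ∈ s, closure {z}) e

theorem dense_range (F : Fac f) : Dense (Set.range F.u.base) := by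
  haveI := F.isNoetherian
  haveI := F.flat
  intro y
  obtain ⟨η, hη, hmax⟩ := exists_maxPt y
  obtain ⟨ξ, -, rfl⟩ := exists_maxPt_lift F.u hmax
  exact hη.mem_closed isClosed_closure (subset_closure ⟨ξ, rfl⟩)

theorem exists_hull [Surjective f] (hS : ∀ s : S, CAlg2.IsGeomUnibranch (S.presheaf.stalk s))
    (hemb : AssSch.NoEmbedded (Coh.structureModule S)) :
    ∃ (E₀ : Scheme.{u}) (g₀ : E₀ ⟶ S) (u₀ : X ⟶ E₀), Etale g₀ ∧ IsAffineHom g₀ ∧
      IsSchemeTheoreticallyDominant u₀ ∧ u₀ ≫ g₀ = f ∧
      ∀ (E : Scheme.{u}) (g : E ⟶ S) (u : X ⟶ E), Etale g → IsAffineHom g → u ≫ g = f →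
        ∃! v : E₀ ⟶ E, u₀ ≫ v = u ∧ v ≫ g = g₀ := by
  classical
  let triv : Fac f := ⟨S, 𝟙 S, f, inferInstance, inferInstance,
    (dominant_iff f).2 fun y _ => f.surjective y, Category.comp_id f⟩
  let B := (∑ ξ ∈ (finite_maxPt (X := X)).toFinset, degBound f ξ) + (finite_maxPt (X := X)).toFinset.card
  obtain ⟨F₀, hF₀⟩ : ∃ F₀ : Fac f, ∀ F : Fac f, F.size ≤ F₀.size := by
    let P : ℕ → Prop := fun n => ∃ F : Fac f, F.size = n
    have hP : ∃ n ≤ B, P n := ⟨triv.size, triv.size_le, triv, rfl⟩
    obtain ⟨n₀, hn₀B, hn₀⟩ := hP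
    obtain ⟨F₀, h⟩ := Nat.findGreatest_spec (P := P) hn₀B hn₀
    exact ⟨F₀, fun F => h.symm ▸ Nat.le_findGreatest F.size_le ⟨F, rfl⟩⟩
  haveI := F₀.isNoetherian
  haveI := F₀.flat
  haveI : LocallyOfFinitePresentation f := inferInstance
  haveI : LocallyOfFiniteType (F₀.u ≫ F₀.g) := by rw [F₀.fac]; infer_instance
  haveI : LocallyOfFiniteType F₀.u := locallyOfFiniteType_of_comp F₀.u F₀.g
  haveI : LocallyOfFinitePresentation F₀.u := inferInstance
  let O : F₀.obj.Opens := ⟨Set.range F₀.u.base, F₀.u.isOpenMap.isOpen_range⟩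
  obtain ⟨W, hW, hWmin⟩ := (finite_affine_opens O (dense_range F₀)).exists_minimal
    ⟨⊤, le_top, by
      haveI : IsIso (⊤ : F₀.obj.Opens).ι := inferInstanceAs (IsIso F₀.obj.topIso.hom)
      infer_instance⟩
  haveI : IsAffineHom W.ι := hW.2
  let u₀ : X ⟶ W := IsOpenImmersion.lift W.ι F₀.u (by rw [Scheme.Opens.range_ι]; exact hW.1)
  have hu₀ : u₀ ≫ W.ι = F₀.u := IsOpenImmersion.lift_fac _ _ _
  have hfac₀ : u₀ ≫ W.ι ≫ F₀.g = f := by rw [← Category.assoc, hu₀, F₀.fac]
  haveI : Flat u₀ := flat_of_comp_eq u₀ (W.ι ≫ F₀.g) hfac₀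
  haveI : IsLocallyNoetherian (W : Scheme.{u}) := LocallyOfFiniteType.isLocallyNoetherian W.ι
  have hdom₀ : IsSchemeTheoreticallyDominant u₀ := (dominant_iff u₀).2 fun y hy => by
    obtain ⟨x, hx⟩ := (dominant_iff F₀.u).1 F₀.dom ((ass_etale_iff W.ι y).1 hy)
    refine ⟨x, W.ι.isOpenEmbedding.injective ?_⟩
    rw [← Scheme.Hom.comp_apply, hu₀, hx]
  refine ⟨W, W.ι ≫ F₀.g, u₀, inferInstance, inferInstance, hdom₀, hfac₀, fun E g u _ _ h => ?_⟩
  obtain ⟨E', g', u', v₁, v₂, he', ha', hd', hf', hv₁, hv₂, hg₁, hg₂, -⟩ :=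
    exists_sup hS hemb f W E (W.ι ≫ F₀.g) g u₀ u hfac₀ h
  let F' : Fac f := ⟨E', g', u', he', ha', hd', hf'⟩
  have hu' : F'.u ≫ (v₁ ≫ W.ι) = F₀.u := by rw [← Category.assoc, hv₁, hu₀]
  have hg' : (v₁ ≫ W.ι) ≫ F₀.g = F'.g := by rw [Category.assoc, hg₁]
  obtain ⟨hle, hopen⟩ := Fac.size_mono F' F₀ (v₁ ≫ W.ι) hu' hg'
  haveI : IsOpenImmersion (v₁ ≫ W.ι) := hopen (le_antisymm hle (hF₀ F'))
  haveI := (Fac.hom_props F' F₀ (v₁ ≫ W.ι) hg').2
  have hWW : W ≤ (v₁ ≫ W.ι).opensRange := by
    refine hWmin ⟨?_, ?_⟩ ?_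
    · rintro _ ⟨x, rfl⟩
      exact ⟨u'.base x, by rw [← Scheme.Hom.comp_apply]; exact congr(($hu').base x)⟩
    · rw [← (v₁ ≫ W.ι).isoOpensRange_inv_comp]
      exact MorphismProperty.comp_mem _ _ _ inferInstance inferInstance
    · rintro _ ⟨z, rfl⟩
      exact (v₁.base z).2
  haveI : Surjective v₁ := ⟨fun w => by
    obtain ⟨z, hz⟩ := hWW w.2
    exact ⟨z, Subtype.ext hz⟩⟩
  haveI : IsOpenImmersion v₁ := IsOpenImmersion.of_comp v₁ W.ι
  haveI : IsIso v₁ := by
    rw [isIso_iff_isOpenImmersion_and_epi_base]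
    exact ⟨inferInstance, (TopCat.epi_iff_surjective _).2 v₁.surjective⟩
  refine ⟨inv v₁ ≫ v₂, ⟨?_, ?_⟩, ?_⟩
  · rw [← hv₁, Category.assoc, IsIso.hom_inv_id_assoc, hv₂]
  · rw [Category.assoc, hg₂, IsIso.inv_comp_eq, hg₁]
  · rintro v ⟨hv, hvg⟩
    haveI := hdom₀
    refine ext_of_dominant u₀ g v (inv v₁ ≫ v₂) ?_ ?_
    · rw [hvg, Category.assoc, hg₂, eq_comm, IsIso.inv_comp_eq, hg₁]
    · rw [hv, ← hv₁, Category.assoc, IsIso.hom_inv_id_assoc, hv₂]

end Groth.Agent.EtHullSup
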